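import Mathlib
import Groth.Agent.Lib.MvHomog.Dvd
import Groth.Agent.Lib.CubicForm.CommonZero

/-!
The affine cone `V(σ₂, σ₄)` in five variables is irreducible.
-/

open MvPolynomial

namespace GrothLib.Esymm

theorem esymm_succ_succ (R : Type*) [CommSemiring R] (n m : ℕ) :
    esymm (Fin (n + 1)) R (m + 1) =
      rename Fin.succ (esymm (Fin n) R (m + 1)) + X 0 * rename Fin.succ (esymm (Fin n) R m) := by
  simp only [esymm_eq_multiset_esymm]
  rw [Fin.univ_succ, Finset.cons_val, Finset.map_val, Multiset.map_cons, Multiset.map_map]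
  simp only [Multiset.esymm, Multiset.powersetCard_cons, Multiset.map_add, Multiset.map_map,
    Multiset.sum_add, Multiset.powersetCard_map, map_multiset_sum, Function.comp_def,
    Multiset.prod_cons, Multiset.sum_map_mul_left, map_multiset_prod, rename_X,
    Function.Embedding.coeFn_mk]

@[simp] theorem esymm_fin_zero_succ (R : Type*) [CommSemiring R] (m : ℕ) :
    esymm (Fin 0) R (m + 1) = 0 := by
  simp [esymm, Finset.powersetCard_eq_empty.mpr]

theorem esymm_isHomogeneous (σ R : Type*) [Fintype σ] [CommSemiring R] (m : ℕ) :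
    (esymm σ R m).IsHomogeneous m := by
  refine IsHomogeneous.sum _ _ _ fun t ht => ?_
  have h := IsHomogeneous.prod t (fun i => (X i : MvPolynomial σ R)) (fun _ => 1)
    fun i _ => isHomogeneous_X R i
  rwa [Finset.sum_const, smul_eq_mul, mul_one, (Finset.mem_powersetCard.mp ht).2] at h

variable (k : Type*) [Field k]

/-- the elementary symmetric functions of three variables -/
noncomputable def qb : MvPolynomial (Fin 3) k := X 0 * X 1 + X 0 * X 2 + X 1 * X 2

theorem esymm_three_two : esymm (Fin 3) k 2 = qb k := by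
  simp [esymm_succ_succ, esymm_zero, qb, map_add, map_mul]
  ring

theorem esymm_three_three : esymm (Fin 3) k 3 = X 0 * X 1 * X 2 := by
  simp [esymm_succ_succ, esymm_zero, mul_assoc]

theorem esymm_three_four : esymm (Fin 3) k 4 = 0 := by
  simp [esymm_succ_succ]

theorem irreducible_qb : Irreducible (qb k) := by
  rw [← MulEquiv.irreducible_iff (finSuccEquiv k 2)]
  have h : finSuccEquiv k 2 (qb k) =
      Polynomial.C (X 0 + X 1) * Polynomial.X + Polynomial.C (X 0 * X 1) := by
    have h1 : finSuccEquiv k 2 (X 1) = Polynomial.C (X 0) := finSuccEquiv_X_succ (j := 0)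
    have h2 : finSuccEquiv k 2 (X 2) = Polynomial.C (X 1) := finSuccEquiv_X_succ (j := 1)
    simp [qb, finSuccEquiv_X_zero, h1, h2, map_add, map_mul]
    ring
  rw [h]
  refine Polynomial.irreducible_C_mul_X_add_C ?_ ?_
  · intro h0
    simpa using congrArg (eval ![(1 : k), 0]) h0
  · refine IsRelPrime.mul_right (IsRelPrime.symm ?_) (IsRelPrime.symm ?_)
    · refine X_prime.irreducible.isRelPrime_iff_not_dvd.mpr ?_
      rintro ⟨q, hq⟩
      simpa using congrArg (eval ![(0 : k), 1]) hq
    · refine X_prime.irreducible.isRelPrime_iff_not_dvd.mpr ?_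
      rintro ⟨q, hq⟩
      simpa using congrArg (eval ![(1 : k), 0]) hq

variable [CharZero k]

theorem not_qb_dvd : ¬ qb k ∣ esymm (Fin 3) k 3 := by
  rintro ⟨q, hq⟩
  have := congrArg (eval fun i : Fin 3 => if i = 2 then (-1 : k) else 2) hq
  rw [esymm_three_three] at this
  simp [qb] at this
  norm_num at this

/-- the relation left after eliminating one variable -/
noncomputable def quintic : MvPolynomial (Fin 4) k :=
  esymm (Fin 4) k 1 * esymm (Fin 4) k 4 - esymm (Fin 4) k 2 * esymm (Fin 4) k 3

theorem irreducible_quintic : Irreducible (quintic k) := by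
  rw [← MulEquiv.irreducible_iff (finSuccEquiv k 3)]
  set b := qb k with hb
  set c := esymm (Fin 3) k 3 with hc
  set a := esymm (Fin 3) k 1 with ha
  have hren : ∀ p, finSuccEquiv k 3 (rename Fin.succ p) = Polynomial.C p := by
    intro p
    induction p using MvPolynomial.induction_on with
    | C r => simp [finSuccEquiv_apply]
    | add p q hp hq => simp only [map_add, hp, hq]
    | mul_X p i hp => simp only [map_mul, hp, rename_X, finSuccEquiv_X_succ]
  have hF : finSuccEquiv k 3 (quintic k) =
      Polynomial.C (c - a * b) * Polynomial.X ^ 2 + Polynomial.C (-b ^ 2) * Polynomial.X +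
        Polynomial.C (-(b * c)) := by
    simp only [quintic, map_sub, map_mul, esymm_succ_succ k 3, map_add, hren, finSuccEquiv_X_zero,
      Nat.reduceAdd, esymm_three_four, esymm_three_two, ← ha, ← hc, ← hb, esymm_zero, map_one, map_zero,
      map_neg, map_pow]
    ring
  rw [hF]
  have hbp : Prime b := (irreducible_qb k).prime
  have hlead : ¬ b ∣ c - a * b := fun h => not_qb_dvd k ((dvd_sub_left (Dvd.intro_left a rfl)).mp h)
  have hne : c - a * b ≠ 0 := fun h => hlead (h ▸ dvd_zero b)
  set f := Polynomial.C (c - a * b) * Polynomial.X ^ 2 + Polynomial.C (-b ^ 2) * Polynomial.X +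
        Polynomial.C (-(b * c)) with hf
  have hdeg : f.degree = 2 := Polynomial.degree_quadratic hne
  have hc0 : f.coeff 0 = -(b * c) := by simp [hf]
  have hc1 : f.coeff 1 = -b ^ 2 := by
    simp only [hf, Polynomial.coeff_add, Polynomial.coeff_C_mul, Polynomial.coeff_X_pow, Polynomial.coeff_X, Polynomial.coeff_C]
    simp
  have hc2 : f.coeff 2 = c - a * b := by
    simp only [hf, Polynomial.coeff_add, Polynomial.coeff_C_mul, Polynomial.coeff_X_pow, Polynomial.coeff_X, Polynomial.coeff_C]
    simp
  refine Polynomial.irreducible_of_eisenstein_criterion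
    ((Ideal.span_singleton_prime hbp.ne_zero).mpr hbp) ?_ ?_ (by rw [hdeg]; decide) ?_ ?_
  · rw [Polynomial.leadingCoeff_quadratic hne, Ideal.mem_span_singleton]
    exact hlead
  · intro n hn
    rw [hdeg] at hn
    have hn2 : n < 2 := by exact_mod_cast hn
    rw [Ideal.mem_span_singleton]
    interval_cases n
    · rw [hc0]; exact (dvd_mul_right b c).neg_right
    · rw [hc1]; exact (dvd_pow_self b two_ne_zero).neg_right
  · rw [hc0, Ideal.span_singleton_pow, Ideal.mem_span_singleton, dvd_neg, pow_two,
      mul_dvd_mul_iff_left hbp.ne_zero]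
    exact not_qb_dvd k
  · intro r hr
    rw [Polynomial.C_dvd_iff_dvd_coeff] at hr
    by_contra hu
    have h2 := hr 2
    have h1 := hr 1
    rw [hc2] at h2
    rw [hc1, dvd_neg] at h1
    have hr0 : r ≠ 0 := by rintro rfl; exact hne (zero_dvd_iff.mp h2)
    obtain ⟨p, hp, hpr⟩ := WfDvdMonoid.exists_irreducible_factor hu hr0
    have hpb : p ∣ b := hp.prime.dvd_of_dvd_pow (hpr.trans h1)
    exact hlead ((hp.associated_of_dvd (irreducible_qb k) hpb).symm.dvd.trans (hpr.trans h2))

theorem isPrime_radical :
    (Ideal.span ({esymm (Fin 5) k 2, esymm (Fin 5) k 4} : Set (MvPolynomial (Fin 5) k))).radical.IsPrime := by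
  classical
  set I := Ideal.span ({esymm (Fin 5) k 2, esymm (Fin 5) k 4} : Set (MvPolynomial (Fin 5) k))
  have hF0 : quintic k ≠ 0 := (irreducible_quintic k).ne_zero
  have hFp : (Ideal.span {quintic k}).IsPrime :=
    (Ideal.span_singleton_prime hF0).mpr (irreducible_quintic k).prime
  let D := FractionRing (MvPolynomial (Fin 4) k ⧸ Ideal.span {quintic k})
  let π : MvPolynomial (Fin 4) k →ₐ[k] D :=
    (IsScalarTower.toAlgHom k (MvPolynomial (Fin 4) k ⧸ Ideal.span {quintic k}) D).comp
      (Ideal.Quotient.mkₐ k _)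
  have hπ : ∀ q, π q = 0 ↔ quintic k ∣ q := fun q => by
    simp only [π, AlgHom.comp_apply, IsScalarTower.coe_toAlgHom', Ideal.Quotient.mkₐ_eq_mk]
    rw [map_eq_zero_iff _ (IsFractionRing.injective _ D), Ideal.Quotient.eq_zero_iff_mem,
      Ideal.mem_span_singleton]
  set e1 := π (esymm (Fin 4) k 1) with he1
  set e2 := π (esymm (Fin 4) k 2) with he2
  have hFhom : (quintic k).IsHomogeneous 5 := by
    refine IsHomogeneous.sub ?_ ?_
    · simpa using (esymm_isHomogeneous (Fin 4) k 1).mul (esymm_isHomogeneous (Fin 4) k 4)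
    · simpa using (esymm_isHomogeneous (Fin 4) k 2).mul (esymm_isHomogeneous (Fin 4) k 3)
  have hsmall : ∀ {q : MvPolynomial (Fin 4) k} {d : ℕ}, q.IsHomogeneous d → d < 5 →
      (∃ v, eval v q ≠ 0) → π q ≠ 0 := by
    intro q d hq hd ⟨v, hv⟩ h
    have hq0 : q ≠ 0 := fun h0 => hv (by simp [h0])
    obtain ⟨m, hm, hFm⟩ := GrothLib.MvHomog.exists_isHomogeneous_of_dvd hq hq0 ((hπ q).mp h)
    have := hFhom.inj_right hFm hF0
    omega
  have he10 : e1 ≠ 0 := hsmall (esymm_isHomogeneous _ _ 1) (by norm_num)
    ⟨fun _ => 1, by simp [esymm_one]⟩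
  let φ : MvPolynomial (Fin 5) k →ₐ[k] D := aeval (Fin.cons (-e2 / e1) fun j => π (X j))
  have hφs : ∀ q, φ (rename Fin.succ q) = π q := by
    intro q
    have : φ.comp (rename Fin.succ) = π := algHom_ext fun i => by simp [φ]
    exact congr($this q)
  have hφ0 : φ (X 0) = -e2 / e1 := by simp [φ]
  set P := RingHom.ker φ with hP
  have hPp : P.IsPrime := RingHom.ker_isPrime φ
  set e1' := rename Fin.succ (esymm (Fin 4) k 1) with he1'
  have h2 : esymm (Fin 5) k 2 = rename Fin.succ (esymm (Fin 4) k 2) + X 0 * e1' :=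
    esymm_succ_succ k 4 1
  have h4 : esymm (Fin 5) k 4 = rename Fin.succ (esymm (Fin 4) k 4) +
      X 0 * rename Fin.succ (esymm (Fin 4) k 3) := esymm_succ_succ k 4 3
  have hFI : rename Fin.succ (quintic k) ∈ I := by
    have : rename Fin.succ (quintic k) =
        e1' * esymm (Fin 5) k 4 - rename Fin.succ (esymm (Fin 4) k 3) * esymm (Fin 5) k 2 := by
      rw [h2, h4, quintic, map_sub, map_mul, map_mul, ← he1']; ring
    rw [this]
    exact I.sub_mem (I.mul_mem_left _ (Ideal.subset_span (by simp)))
      (I.mul_mem_left _ (Ideal.subset_span (by simp)))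
  have hIP : I ≤ P := by
    have hs2 : φ (esymm (Fin 5) k 2) = 0 := by
      rw [h2, map_add, map_mul, hφs, hφs, hφ0, ← he1, ← he2, div_mul_cancel₀ _ he10]; ring
    have hs4 : φ (esymm (Fin 5) k 4) = 0 := by
      have h := (hπ (quintic k)).mpr dvd_rfl
      change π (esymm (Fin 4) k 1 * esymm (Fin 4) k 4 - esymm (Fin 4) k 2 * esymm (Fin 4) k 3) = 0 at h
      rw [map_sub, map_mul, map_mul, ← he1, ← he2] at h
      rw [h4, map_add, map_mul, hφs, hφs, hφ0]
      refine (mul_eq_zero.mp ?_).resolve_left he10
      have hc := div_mul_cancel₀ (-e2) he10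
      linear_combination h + π (esymm (Fin 4) k 3) * hc
    rw [Ideal.span_le]
    rintro _ (rfl | rfl)
    · exact hs2
    · exact hs4
  have hmain : ∀ Q : Ideal (MvPolynomial (Fin 5) k), Q.IsPrime → I ≤ Q → e1' ∉ Q → P ≤ Q := by
    intro Q hQ hIQ he p hp
    have hred : ∀ p : MvPolynomial (Fin 5) k, ∃ N q, e1' ^ N * p - rename Fin.succ q ∈ I := by
      intro p
      induction p using MvPolynomial.induction_on with
      | C r => exact ⟨0, C r, by simp⟩
      | add p q hp hq =>
        obtain ⟨N, p', hp⟩ := hp
        obtain ⟨M, q', hq⟩ := hq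
        refine ⟨N + M, esymm (Fin 4) k 1 ^ M * p' + esymm (Fin 4) k 1 ^ N * q', ?_⟩
        convert I.add_mem (I.mul_mem_left (e1' ^ M) hp) (I.mul_mem_left (e1' ^ N) hq) using 1
        simp only [map_add, map_mul, map_pow, ← he1']
        ring
      | mul_X p i hp =>
        obtain ⟨N, p', hp⟩ := hp
        induction i using Fin.cases with
        | zero =>
          refine ⟨N + 1, -(esymm (Fin 4) k 2 * p'), ?_⟩
          convert I.add_mem (I.mul_mem_left (e1' * X 0) hp)
            (I.mul_mem_left (rename Fin.succ p') (Ideal.subset_span (Set.mem_insert (esymm (Fin 5) k 2) _)))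
            using 1
          rw [h2, map_neg, map_mul]
          ring
        | succ j =>
          refine ⟨N, p' * X j, ?_⟩
          convert I.mul_mem_left (X j.succ) hp using 1
          rw [map_mul, rename_X]
          ring
    obtain ⟨N, q, hq⟩ := hred p
    have hφq : φ (rename Fin.succ q) = 0 := by
      have h1 : φ (e1' ^ N * p - rename Fin.succ q) = 0 := hIP hq
      rwa [map_sub, map_mul, (RingHom.mem_ker).mp hp, mul_zero, zero_sub, neg_eq_zero] at h1
    rw [hφs, hπ] at hφq
    obtain ⟨w, rfl⟩ := hφq
    rw [map_mul] at hq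
    have : e1' ^ N * p ∈ I := by
      simpa using I.add_mem hq (I.mul_mem_right (rename Fin.succ w) hFI)
    exact (hQ.mem_or_mem (hIQ this)).resolve_left fun h => he (hQ.mem_of_pow_mem N h)
  -- complements of the variables
  set S := esymm (Fin 5) k 1 with hS
  have hS0 : e1' = S - X 0 := by
    rw [hS, esymm_succ_succ k 4 0, esymm_zero, map_one, ← he1']; ring
  have hnot : ∀ i, S - X i ∉ P := by
    intro i
    induction i using Fin.cases with
    | zero =>
      rw [← hS0, hP, RingHom.mem_ker, hφs]
      exact he10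
    | succ l =>
      intro h
      rw [hP, RingHom.mem_ker, map_sub, hS, esymm_succ_succ k 4 0, esymm_zero, map_one, map_add,
        map_mul, hφs, hφ0, map_one, ← rename_X, hφs, ← he1] at h
      refine hsmall (q := esymm (Fin 4) k 1 * esymm (Fin 4) k 1 - esymm (Fin 4) k 2 -
        esymm (Fin 4) k 1 * X l) (d := 2) ?_ (by norm_num) ⟨fun _ => 1, ?_⟩ ?_
      · refine IsHomogeneous.sub (IsHomogeneous.sub ?_ (esymm_isHomogeneous _ _ 2)) ?_
        · simpa using (esymm_isHomogeneous (Fin 4) k 1).mul (esymm_isHomogeneous (Fin 4) k 1)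
        · simpa using (esymm_isHomogeneous (Fin 4) k 1).mul (isHomogeneous_X k l)
      · simp [esymm_succ_succ, esymm_zero, eval_rename, Function.comp_def]
        norm_num
      · rw [map_sub, map_sub, map_mul, map_mul, ← he1, ← he2]
        have hc := div_mul_cancel₀ (-e2) he10
        linear_combination e1 * h - hc
  have hmin : ∀ Q ∈ I.minimalPrimes, Q = P := by
    intro Q hQ
    obtain ⟨i, hi⟩ : ∃ i, S - X i ∉ Q := by
      by_contra! h
      have h5 : ∀ i, X i ∈ Q := by
        have hsum := Q.sum_mem (t := Finset.univ) fun i _ => h i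
        have : ∑ i : Fin 5, (S - X i) = C (4 : k) * S := by
          rw [Finset.sum_sub_distrib, hS, esymm_one]
          simp [map_ofNat]
          ring
        rw [this] at hsum
        have hSQ : S ∈ Q := (Q.unit_mul_mem_iff_mem ((isUnit_iff_ne_zero.mpr (by norm_num)).map C)).mp hsum
        exact fun i => by simpa using Q.sub_mem hSQ (h i)
      have hker : RingHom.ker (GrothLib.CubicForm.killFirst (k := k) (n := 5) 5) ≤ Q := by
        intro p hp
        have hc : ∀ p : MvPolynomial (Fin 5) k, p - C (constantCoeff p) ∈ Q := by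
          intro p
          induction p using MvPolynomial.induction_on with
          | C r => simp
          | add p q hp hq => simpa [map_add, add_sub_add_comm] using Q.add_mem hp hq
          | mul_X p i _ => simpa using Q.mul_mem_left p (h5 i)
        have h0 : constantCoeff p = 0 := by
          have := congrArg constantCoeff ((RingHom.mem_ker).mp hp)
          have hk : ∀ p : MvPolynomial (Fin 5) k,
              constantCoeff (GrothLib.CubicForm.killFirst 5 p) = constantCoeff p := by
            intro p
            induction p using MvPolynomial.induction_on with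
            | C r => simp [GrothLib.CubicForm.killFirst]
            | add p q hp hq => simp only [map_add, hp, hq]
            | mul_X p i hp => simp [map_mul, GrothLib.CubicForm.killFirst]
          rwa [hk, map_zero] at this
        simpa [h0] using hc p
      have h1 := (GrothLib.CubicForm.le_height_ker_killFirst (k := k) (n := 5) 5 le_rfl).trans
        (Ideal.height_mono hker)
      have h2 := Ideal.height_le_card_of_mem_minimalPrimes_span (Set.toFinite _) hQ
      have h3 : ({esymm (Fin 5) k 2, esymm (Fin 5) k 4} : Set (MvPolynomial (Fin 5) k)).ncard ≤ 2 :=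
        (Set.ncard_insert_le _ _).trans (by simp)
      have h4 : (5 : ℕ∞) ≤ 2 := h1.trans (h2.trans (by exact_mod_cast h3))
      exact absurd h4 (by decide)
    let τ : MvPolynomial (Fin 5) k →ₐ[k] MvPolynomial (Fin 5) k := rename (Equiv.swap 0 i)
    have hττ : ∀ p, τ (τ p) = p := fun p => by
      simp [τ, rename_rename, Function.comp_def, show (fun x : Fin 5 => x) = id from rfl]
    have hIτ : I ≤ I.comap τ := by
      rw [Ideal.span_le]
      rintro _ (rfl | rfl) <;>
        simp only [SetLike.mem_coe, Ideal.mem_comap, τ, rename_esymm] <;>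
        exact Ideal.subset_span (by simp)
    have hτX : ∀ j, τ (S - X j) = S - X (Equiv.swap 0 i j) := fun j => by
      rw [map_sub, hS]
      simp only [τ, rename_esymm, rename_X]
    have hge : ∀ R : Ideal (MvPolynomial (Fin 5) k), R.IsPrime → I ≤ R → S - X i ∉ R →
        P.comap τ ≤ R := by
      intro R hR hIR hne
      have := hmain (R.comap τ) (hR.comap τ) (hIτ.trans (Ideal.comap_mono hIR))
        (by rw [Ideal.mem_comap, hS0, hτX, Equiv.swap_apply_left]; exact hne)
      intro p hp
      have := this hp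
      rwa [Ideal.mem_comap, hττ] at this
    have hle1 : P.comap τ ≤ Q := hge Q hQ.1.1 hQ.1.2 hi
    have hQeq : Q = P.comap τ :=
      le_antisymm (hQ.2 ⟨hPp.comap τ, hIτ.trans (Ideal.comap_mono hIP)⟩ hle1) hle1
    refine hQeq.trans (le_antisymm (hge P hPp hIP (hnot i)) ?_)
    exact hmain _ (hPp.comap τ) (hIτ.trans (Ideal.comap_mono hIP))
      (by rw [Ideal.mem_comap, hS0, hτX, Equiv.swap_apply_left]; exact hnot i)
  obtain ⟨Q, hQ, -⟩ := Ideal.exists_minimalPrimes_le hIP
  have hrad : I.radical = P := by
    rw [← Ideal.sInf_minimalPrimes]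
    exact le_antisymm ((sInf_le hQ).trans (hmin Q hQ).le) (le_sInf fun Q' hQ' => (hmin Q' hQ').ge)
  rwa [hrad]

end GrothLib.Esymm
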